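import Groth.Agent.W7TotAcyc.Modules
import Groth.Agent.SiteCoh.TotAcyclic
import Groth.Agent.SiteCoh.Terminal
import Groth.Agent.CohQC.ToSheafExact
import Groth.Agent.ModSiteGro.Basic
import Mathlib.Algebra.Homology.ShortComplex.ExactFunctor
import Mathlib.CategoryTheory.Abelian.GrothendieckCategory.EnoughInjectives

/-!
`Ext` of the unit sheaf of modules agrees with the cohomology of the underlying abelian sheaf.
-/

set_option autoImplicit false
set_option backward.isDefEq.respectTransparency false
set_option backward.defeqAttrib.useBackward true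

universe u

open CategoryTheory Category Limits Opposite Abelian

namespace Groth.Agent.W7ModH

open Groth.Agent.SiteCoh

variable {C : Type u} [SmallCategory C] {J : GrothendieckTopology C} {R : Sheaf J RingCat.{u}}

/-- the map of presheaves given by the unit of the rings -/
noncomputable def onePre :
    (Functor.const Cᵒᵖ).obj (AddCommGrpCat.of (ULift.{u} ℤ)) ⟶
      ((SheafOfModules.toSheaf R).obj (SheafOfModules.unit R)).obj where
  app U := AddCommGrpCat.ofHom
    ((zmultiplesHom (R.obj.obj U) (1 : R.obj.obj U)).comp AddEquiv.ulift.toAddMonoidHom)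
  naturality U V g := by
    refine AddCommGrpCat.hom_ext (AddMonoidHom.ext fun n => ?_)
    change n.down • (1 : R.obj.obj V) = (R.obj.map g).hom (n.down • (1 : R.obj.obj U))
    rw [map_zsmul, map_one]

/-- the map from the constant sheaf given by the unit of the rings -/
noncomputable def one (R : Sheaf J RingCat.{u}) :
    constZ J ⟶ (SheafOfModules.toSheaf R).obj (SheafOfModules.unit R) :=
  ((sheafificationAdjunction J AddCommGrpCat.{u}).homEquiv _ _).symm onePre

variable (M : SheafOfModules.{u} R)

/-- maps out of the unit give maps out of the constant sheaf -/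
noncomputable def unitToConst :
    (SheafOfModules.unit R ⟶ M) →+ (constZ J ⟶ (SheafOfModules.toSheaf R).obj M) :=
  AddMonoidHom.mk' (fun s => one R ≫ (SheafOfModules.toSheaf R).map s) fun s t => by
    rw [Functor.map_add, Preadditive.comp_add]

lemma homEquiv_unitToConst (s : SheafOfModules.unit R ⟶ M) :
    (sheafificationAdjunction J AddCommGrpCat.{u}).homEquiv _ _ (unitToConst M s) =
      onePre ≫ ((SheafOfModules.toSheaf R).map s).hom := by
  change (sheafificationAdjunction J AddCommGrpCat.{u}).homEquiv _ _ (one R ≫ _) = _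
  erw [Adjunction.homEquiv_naturality_right, one, Equiv.apply_symm_apply]
  rfl

lemma unitHomEquiv_val (s : SheafOfModules.unit R ⟶ M) (U : Cᵒᵖ) :
    (onePre ≫ ((SheafOfModules.toSheaf R).map s).hom).app U (ULift.up 1) =
      (M.unitHomEquiv s).val U := by
  change s.val.app U ((1 : ℤ) • (1 : R.obj.obj U)) = _
  rw [one_zsmul]
  rfl

lemma unitToConst_bijective : Function.Bijective (unitToConst M) := by
  constructor
  · intro s t h
    apply M.unitHomEquiv.injective
    refine Subtype.ext (funext fun U => ?_)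
    rw [← unitHomEquiv_val M s U, ← unitHomEquiv_val M t U, ← homEquiv_unitToConst,
      ← homEquiv_unitToConst, h]
  · intro ψ
    let τ := (sheafificationAdjunction J AddCommGrpCat.{u}).homEquiv _ _ ψ
    let x : M.sections := ⟨fun U => τ.app U (ULift.up 1), fun {U V} g =>
      (NatTrans.naturality_apply τ g (ULift.up 1)).symm⟩
    refine ⟨M.unitHomEquiv.symm x,
      ((sheafificationAdjunction J AddCommGrpCat.{u}).homEquiv _ _).injective ?_⟩
    rw [homEquiv_unitToConst]
    refine NatTrans.ext (funext fun U => AddCommGrpCat.hom_ext (AddMonoidHom.ext fun n => ?_))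
    have h : (onePre ≫ ((SheafOfModules.toSheaf R).map (M.unitHomEquiv.symm x)).hom).app U
        (ULift.up 1) = τ.app U (ULift.up 1) := by
      rw [unitHomEquiv_val, Equiv.apply_symm_apply]
    have hn : n = n.down • (ULift.up 1 : ULift.{u} ℤ) := by
      apply ULift.ext
      change n.down = n.down • (1 : ℤ)
      rw [smul_eq_mul, mul_one]
    rw [hn, map_zsmul, map_zsmul]
    exact congrArg (fun z => n.down • z) h

/-- maps out of the unit are the maps out of the constant sheaf -/
noncomputable def unitConstEquiv :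
    (SheafOfModules.unit R ⟶ M) ≃+ (constZ J ⟶ (SheafOfModules.toSheaf R).obj M) :=
  AddEquiv.ofBijective (unitToConst M) (unitToConst_bijective M)

lemma unitConstEquiv_comp {N : SheafOfModules.{u} R} (s : SheafOfModules.unit R ⟶ M) (f : M ⟶ N) :
    unitConstEquiv N (s ≫ f) = unitConstEquiv M s ≫ (SheafOfModules.toSheaf R).map f := by
  change one R ≫ (SheafOfModules.toSheaf R).map (s ≫ f) = (one R ≫ _) ≫ _
  rw [Functor.map_comp, Category.assoc]

section Connecting

variable {A : Type*} [Category A] [Abelian A] [HasExt.{u} A] {S : ShortComplex A}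
  (hS : S.ShortExact) (P : A)

/-- the connecting map in degree zero -/
noncomputable def delta : (P ⟶ S.X₃) →+ Ext P S.X₁ 1 :=
  (hS.extClass.postcomp P (zero_add 1)).comp Ext.addEquiv₀.symm.toAddMonoidHom

lemma delta_surjective [Subsingleton (Ext P S.X₂ 1)] : Function.Surjective (delta hS P) := by
  intro x
  obtain ⟨x₃, hx⟩ := Ext.covariant_sequence_exact₁ P hS x (Subsingleton.elim _ _) (zero_add 1)
  exact ⟨Ext.addEquiv₀ x₃, (congrArg (hS.extClass.postcomp P (zero_add 1))
    (Ext.addEquiv₀.symm_apply_apply x₃)).trans hx⟩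

lemma mem_ker_delta (φ : P ⟶ S.X₃) : φ ∈ (delta hS P).ker ↔ ∃ ψ : P ⟶ S.X₂, ψ ≫ S.g = φ := by
  rw [AddMonoidHom.mem_ker]
  constructor
  · intro h
    obtain ⟨x₂, hx⟩ := Ext.covariant_sequence_exact₃ P hS (Ext.mk₀ φ) (zero_add 1) h
    obtain ⟨ψ, rfl⟩ := (Ext.mk₀_bijective _ _).2 x₂
    exact ⟨ψ, (Ext.mk₀_bijective _ _).1 (by rw [← hx, Ext.mk₀_comp_mk₀])⟩
  · rintro ⟨ψ, rfl⟩
    change (Ext.mk₀ (ψ ≫ S.g)).comp hS.extClass (zero_add 1) = 0
    rw [← Ext.mk₀_comp_mk₀, Ext.comp_assoc _ _ _ (zero_add 0) (zero_add 1) (by omega),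
      hS.comp_extClass, Ext.comp_zero]

end Connecting

lemma subsingleton_H_succ_of_totallyAcyclic {F : Sheaf J AddCommGrpCat.{u}}
    (hF : CohCx.IsTotallyAcyclic F) (n : ℕ) : Subsingleton (Ext (constZ J) F (n + 1)) := by
  let P : Cᵒᵖ ⥤ Type u := (Functor.const _).obj PUnit.{u + 1}
  let i : (Functor.const Cᵒᵖ).obj (AddCommGrpCat.of (ULift.{u} ℤ)) ≅
      P ⋙ AddCommGrpCat.free.{u} :=
    NatIso.ofComponents (fun _ => AddEquiv.toAddCommGrpIso
      ((AddEquiv.ulift).trans (FreeAbelianGroup.uniqueEquiv PUnit.{u + 1}).symm))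
      (fun _ => by
        refine AddCommGrpCat.hom_ext (AddMonoidHom.ext fun x => ?_)
        exact (congrFun (congrArg DFunLike.coe
          (congrArg AddCommGrpCat.Hom.hom (AddCommGrpCat.free.map_id PUnit.{u + 1}))) _).symm)
  let j : constZ J ≅ (presheafToSheaf J AddCommGrpCat.{u}).obj
      (((presheafToSheaf J (Type u)).obj P).obj ⋙ AddCommGrpCat.free.{u}) :=
    (presheafToSheaf J AddCommGrpCat.{u}).mapIso i ≪≫
      asIso ((presheafToSheaf J AddCommGrpCat.{u}).map
        (Functor.whiskerRight (toSheafify J P) AddCommGrpCat.free.{u}))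
  have h := hF ((presheafToSheaf J (Type u)).obj P) n
  exact ((((extFunctor (n + 1)).mapIso j.op).app F).addCommGroupIsoToAddEquiv).toEquiv.subsingleton_congr.mp h

variable [HasExt.{u} (SheafOfModules.{u} R)]

/-- `Ext(O, M) ≅ H(M)` -/
theorem nonempty_extUnitEquiv (n : ℕ) :
    Nonempty (Ext (SheafOfModules.unit R) M n ≃+
      Sheaf.H.{u} ((SheafOfModules.toSheaf R).obj M) n) := by
  induction n generalizing M with
  | zero => exact ⟨(Ext.addEquiv₀.trans (unitConstEquiv M)).trans Ext.addEquiv₀.symm⟩
  | succ n ih =>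
    haveI := ModSiteGro.isGrothendieckAbelian R
    let T := SheafOfModules.toSheaf R
    let S := embedSeq M
    haveI hinj : Injective S.X₂ := embedSeq_injective M
    haveI hI' : ∀ k : ℕ, Subsingleton (Ext (SheafOfModules.unit R) S.X₂ (k + 1)) :=
      fun k => subsingleton_ext_injective _ _ k
    have hS : S.ShortExact := embedSeq_shortExact M
    have hTS : (S.map T).ShortExact := hS.map_of_exact T
    have hI : ∀ k : ℕ, Subsingleton (Ext (constZ J) (S.map T).X₂ (k + 1)) :=
      subsingleton_H_succ_of_totallyAcyclic (W7TotAcyc.isTotallyAcyclic_injective_module R S.X₂)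
    haveI := hI
    obtain _ | m := n
    · let δ := delta hS (SheafOfModules.unit R)
      let δ' := (delta hTS (constZ J)).comp (unitConstEquiv S.X₃).toAddMonoidHom
      have hδ : Function.Surjective δ := delta_surjective hS _
      have hδ' : Function.Surjective δ' := by
        haveI := hI 0
        exact (delta_surjective hTS _).comp (unitConstEquiv S.X₃).surjective
      have hker : δ.ker = δ'.ker := by
        ext φ
        rw [mem_ker_delta hS]
        refine Iff.trans ?_ (mem_ker_delta hTS (constZ J) (unitConstEquiv S.X₃ φ)).symm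
        constructor
        · rintro ⟨ψ, rfl⟩
          exact ⟨unitConstEquiv S.X₂ ψ, (unitConstEquiv_comp S.X₂ ψ S.g).symm⟩
        · rintro ⟨ψ, hψ⟩
          refine ⟨(unitConstEquiv S.X₂).symm ψ, (unitConstEquiv S.X₃).injective ?_⟩
          rw [unitConstEquiv_comp, AddEquiv.apply_symm_apply]
          exact hψ
      exact ⟨((QuotientAddGroup.quotientKerEquivOfSurjective δ hδ).symm.trans
        (QuotientAddGroup.quotientAddEquivOfEq hker)).trans
        (QuotientAddGroup.quotientKerEquivOfSurjective δ' hδ')⟩
    · obtain ⟨e⟩ := ih S.X₃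
      haveI := hI m
      haveI := hI (m + 1)
      exact ⟨((shiftEquiv hS (SheafOfModules.unit R) (m + 1)).symm.trans e).trans
        (shiftEquiv hTS (constZ J) (m + 1))⟩

end Groth.Agent.W7ModH
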